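import Groth.Agent.Lib.LCFin.TotalCx.Resolution
import Mathlib.Algebra.Homology.ShortComplex.ModuleCat
import Mathlib.Algebra.Category.ModuleCat.Kernels

/-!
# Resolutions from complexes and their duals
-/

set_option autoImplicit false
set_option linter.style.haveILetI false

universe u

open CategoryTheory CategoryTheory.Limits
open Groth.Agent.Lib.LCFin Groth.Agent.Lib.LCFin.TotalCx

namespace Groth.Agent.Lib.ExtCM77.Resol

variable {R : Type u} [CommRing R]

/-- Exactness of a complex in negative degrees, on elements. -/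
theorem exact_of_exactAt (E : CochainComplex (ModuleCat.{u} R) ℤ) (hex : ∀ i, i < 0 → E.ExactAt i) (a : ℕ) :
    Function.Exact (E.d (-((a + 1 + 1 : ℕ) : ℤ)) (-((a + 1 : ℕ) : ℤ))).hom
      (E.d (-((a + 1 : ℕ) : ℤ)) (-(a : ℤ))).hom := by
  have h := hex (-((a + 1 : ℕ) : ℤ)) (by omega)
  rw [HomologicalComplex.exactAt_iff' _ (-((a + 1 + 1 : ℕ) : ℤ)) _ (-(a : ℤ))
    (by rw [CochainComplex.prev]; omega) (by rw [CochainComplex.next]; omega),
    ShortComplex.moduleCat_exact_iff] at h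
  refine fun x => ⟨fun hx => h x hx, ?_⟩
  rintro ⟨y, rfl⟩
  exact LinearMap.congr_fun (congrArg ModuleCat.Hom.hom (E.d_comp_d _ _ _)) y

/-- A bounded complex of projective modules resolving its top homology, as a resolution. -/
noncomputable def syz (E : CochainComplex (ModuleCat.{u} R) ℤ) (L : ℕ)
    (hz : ∀ i, i < -(L : ℤ) ∨ 0 < i → IsZero (E.X i))
    (hfin : ∀ i, Module.Finite R (E.X i)) (hproj : ∀ i, Module.Projective R (E.X i))
    (hex : ∀ i, i < 0 → E.ExactAt i) {M : Type u} [AddCommGroup M] [Module R M]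
    (e : E.homology 0 ≅ ModuleCat.of R M) : Syz R M L where
  P a := E.X (-(a : ℤ))
  K a := ModuleCat.of R (E.X (-(a : ℤ)) ⧸
    LinearMap.range (E.d (-((a + 1 : ℕ) : ℤ)) (-(a : ℤ))).hom)
  π a := Submodule.mkQ _
  ι a := Submodule.liftQ _ (E.d (-((a + 1 : ℕ) : ℤ)) (-(a : ℤ))).hom
    (fun x hx => LinearMap.mem_ker.2 (((exact_of_exactAt E hex a) x).2 hx))
  π_surj a := Submodule.mkQ_surjective _
  ι_inj a := by
    intro x y hxy
    obtain ⟨x, rfl⟩ := Submodule.mkQ_surjective _ x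
    obtain ⟨y, rfl⟩ := Submodule.mkQ_surjective _ y
    exact (Submodule.Quotient.eq _).2 ((exact_of_exactAt E hex a (x - y)).1 (by
      rw [map_sub]
      exact sub_eq_zero.2 hxy))
  exact a x := by
    refine ⟨fun hx => ?_, ?_⟩
    · obtain ⟨y, rfl⟩ := (Submodule.Quotient.mk_eq_zero _).1 hx
      exact ⟨Submodule.Quotient.mk y, rfl⟩
    · rintro ⟨z, rfl⟩
      obtain ⟨y, rfl⟩ := Submodule.mkQ_surjective _ z
      exact (Submodule.Quotient.mk_eq_zero _).2 ⟨y, rfl⟩
  fin a := hfin _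
  proj a := hproj _
  zero a ha := ModuleCat.subsingleton_of_isZero (hz _ (Or.inl (by omega)))
  equiv :=
    let o : E.homology 0 ≅ ModuleCat.of R (E.X (-((0 : ℕ) : ℤ)) ⧸
        LinearMap.range (E.d (-((0 + 1 : ℕ) : ℤ)) (-((0 : ℕ) : ℤ))).hom) :=
      E.isoHomologyι 0 1 (by simp) ((hz 1 (Or.inr one_pos)).eq_of_tgt _ _) ≪≫
        IsColimit.coconePointUniqueUpToIso (E.opcyclesIsCokernel (-1) 0 (by simp)) (colimit.isColimit _) ≪≫
        ModuleCat.cokernelIsoRangeQuotient _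
    (o.symm ≪≫ e).toLinearEquiv

variable {M : Type u} [AddCommGroup M] [Module R M] {L : ℕ} (S : Syz R M L)

/-- The differential of the dual of a resolution. -/
noncomputable abbrev δ (a : ℕ) : Module.Dual R (S.P a) →ₗ[R] Module.Dual R (S.P (a + 1)) :=
  (S.dP a).dualMap

/-- Coboundaries. -/
noncomputable def cobd : ∀ a : ℕ, Submodule R (Module.Dual R (S.P a))
  | 0 => ⊥
  | b + 1 => LinearMap.range (δ S b)

/-- Dimension shifting. -/
theorem exists_shift : ∀ (b j n : ℕ), n = b + j → ∃ Ψ : Abelian.Ext (S.K b) (ModuleCat.of R R) j →ₗ[R]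
    Abelian.Ext (S.K 0) (ModuleCat.of R R) n, Function.Surjective Ψ ∧ (0 < j → Function.Injective Ψ) := by
  intro b
  induction b with
  | zero =>
    intro j n hn
    obtain rfl : n = j := by omega
    exact ⟨LinearMap.id, Function.surjective_id, fun _ => Function.injective_id⟩
  | succ b ih =>
    intro j n hn
    obtain ⟨Ψ, hs, hi⟩ := ih (j + 1) n (by omega)
    refine ⟨Ψ ∘ₗ ExtLoc.extConn (S.ι_inj b) (S.π_surj b) (S.exact b) R j,
      hs.comp (ExtLoc.extConn_surjective _ _ _ _ (S.proj b) j), fun hj => ?_⟩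
    obtain ⟨j', rfl⟩ := Nat.exists_eq_add_one_of_ne_zero hj.ne'
    exact (hi (Nat.succ_pos _)).comp
      (ExtLoc.extConn_succ_injective (S.ι_inj b) (S.π_surj b) (S.exact b) R (S.proj b) j')

/-- Cocycles as functionals on syzygies. -/
theorem exists_descend (a : ℕ) (z : Module.Dual R (S.P a)) (hz : δ S a z = 0) :
    ∃ φ : S.K a →ₗ[R] R, φ ∘ₗ S.π a = z := by
  have hk : LinearMap.ker (S.π a) ≤ LinearMap.ker z := fun x hx => by
    obtain ⟨v, rfl⟩ := (S.exact a x).1 hx
    obtain ⟨w, rfl⟩ := S.π_surj (a + 1) v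
    exact LinearMap.congr_fun hz w
  refine ⟨(LinearMap.ker (S.π a)).liftQ z hk ∘ₗ
    ((S.π a).quotKerEquivOfSurjective (S.π_surj a)).symm.toLinearMap, LinearMap.ext fun x => ?_⟩
  show (LinearMap.ker (S.π a)).liftQ z hk
      (((S.π a).quotKerEquivOfSurjective (S.π_surj a)).symm (S.π a x)) = z x
  rw [show ((S.π a).quotKerEquivOfSurjective (S.π_surj a)).symm (S.π a x) = Submodule.Quotient.mk x from
    (LinearEquiv.symm_apply_eq _).2 rfl, Submodule.liftQ_apply]

/-- `Ext` is cocycles modulo coboundaries. -/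
theorem exists_toExt (a : ℕ) :
    ∃ Φ : LinearMap.ker (δ S a) →ₗ[R] Abelian.Ext (ModuleCat.of R M) (ModuleCat.of R R) a,
      Function.Surjective Φ ∧ ∀ z, Φ z = 0 ↔ (z : Module.Dual R (S.P a)) ∈ cobd S a := by
  -- functionals on the syzygy are the cocycles
  let T : (S.K a →ₗ[R] R) →ₗ[R] LinearMap.ker (δ S a) := LinearMap.codRestrict _ (S.π a).dualMap fun φ =>
    LinearMap.mem_ker.2 (LinearMap.ext fun x => by
      show φ (S.π a (S.ι a (S.π (a + 1) x))) = 0
      rw [(S.exact a).apply_apply_eq_zero, map_zero])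
  have hT : Function.Bijective T := by
    refine ⟨fun φ ψ h => LinearMap.ext fun x => ?_, fun z => ?_⟩
    · obtain ⟨y, rfl⟩ := S.π_surj a x
      exact LinearMap.congr_fun (congrArg Subtype.val h) y
    · obtain ⟨φ, hφ⟩ := exists_descend S a z.1 z.2
      exact ⟨φ, Subtype.ext hφ⟩
  let Te := LinearEquiv.ofBijective T hT
  let ε : ModuleCat.of R M ≅ S.K 0 := S.equiv.symm.toModuleIso
  let m : Abelian.Ext (S.K 0) (ModuleCat.of R R) a →ₗ[R] Abelian.Ext (ModuleCat.of R M) (ModuleCat.of R R) a :=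
    { toFun := fun α => (Abelian.Ext.mk₀ ε.hom).comp α (zero_add a)
      map_add' := fun α β => Abelian.Ext.comp_add _ _ _ _
      map_smul' := fun r α => Abelian.Ext.comp_smul _ _ _ _ }
  have hm : Function.Bijective m := by
    refine Function.bijective_iff_has_inverse.2
      ⟨fun α => (Abelian.Ext.mk₀ ε.inv).comp α (zero_add a), fun α => ?_, fun α => ?_⟩
    · show (Abelian.Ext.mk₀ ε.inv).comp ((Abelian.Ext.mk₀ ε.hom).comp α (zero_add a)) (zero_add a) = α
      simp
    · show (Abelian.Ext.mk₀ ε.hom).comp ((Abelian.Ext.mk₀ ε.inv).comp α (zero_add a)) (zero_add a) = α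
      simp
  cases a with
  | zero =>
    let h0 := (ExtLoc.homEquiv (R := R) (S.K 0) R).symm
    refine ⟨m ∘ₗ h0.toLinearMap ∘ₗ Te.symm.toLinearMap,
      hm.2.comp (h0.surjective.comp Te.symm.surjective), fun z => ?_⟩
    show m (h0 (Te.symm z)) = 0 ↔ _
    rw [map_eq_zero_iff m hm.1, LinearEquiv.map_eq_zero_iff, LinearEquiv.map_eq_zero_iff, cobd,
      Submodule.mem_bot, Subtype.ext_iff]
    rfl
  | succ b =>
    obtain ⟨Ψ, hΨs, hΨi⟩ := exists_shift S b 1 (b + 1) rfl
    let c := ExtLoc.extConn (S.ι_inj b) (S.π_surj b) (S.exact b) R 0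
    let h0 := (ExtLoc.homEquiv (R := R) (S.K (b + 1)) R).symm
    refine ⟨m ∘ₗ Ψ ∘ₗ c ∘ₗ h0.toLinearMap ∘ₗ Te.symm.toLinearMap,
      hm.2.comp (hΨs.comp ((ExtLoc.extConn_surjective (S.ι_inj b) (S.π_surj b) (S.exact b) R (S.proj b) 0).comp
        (h0.surjective.comp Te.symm.surjective))), fun z => ?_⟩
    show m (Ψ (c (h0 (Te.symm z)))) = 0 ↔ _
    rw [map_eq_zero_iff m hm.1, map_eq_zero_iff Ψ (hΨi Nat.one_pos)]
    have hz : (z : Module.Dual R (S.P (b + 1))) = Te.symm z ∘ₗ S.π (b + 1) :=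
      (congrArg Subtype.val (Te.apply_symm_apply z)).symm
    constructor
    · intro h
      obtain ⟨g, hg⟩ := (ExtLoc.extConn_eq_zero_iff (S.ι_inj b) (S.π_surj b) (S.exact b) R 0 _).1 h
      refine ⟨ExtLoc.homEquiv (R := R) (S.P b) R g, ?_⟩
      have e : Te.symm z = ExtLoc.homEquiv (R := R) (S.P b) R g ∘ₗ S.ι b := by
        refine Eq.trans ?_ (ExtLoc.homEquiv_precomp R g)
        rw [hg, LinearEquiv.apply_symm_apply]
      rw [hz, e]
      rfl
    · rintro ⟨g, hg⟩
      refine (ExtLoc.extConn_eq_zero_iff (S.ι_inj b) (S.π_surj b) (S.exact b) R 0 _).2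
        ⟨(ExtLoc.homEquiv (R := R) (S.P b) R).symm g, (ExtLoc.homEquiv (R := R) (S.K (b + 1)) R).injective ?_⟩
      refine (ExtLoc.homEquiv_precomp R _).trans ?_
      rw [LinearEquiv.apply_symm_apply, LinearEquiv.apply_symm_apply]
      refine LinearMap.ext fun x => ?_
      obtain ⟨y, rfl⟩ := S.π_surj (b + 1) x
      exact LinearMap.congr_fun (hg.trans hz) y

end Groth.Agent.Lib.ExtCM77.Resol
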