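import Groth.Agent.H54.PCFlatBase
import Groth.Agent.Lib.ExtCM77.Resol
import Groth.Agent.S11361
import Mathlib.RingTheory.TensorProduct.MvPolynomial

/-!
# The dual of a resolution on a fibre
-/

set_option autoImplicit false
set_option linter.style.haveILetI false
set_option maxHeartbeats 1000000
set_option synthInstance.maxHeartbeats 200000

universe u

open CategoryTheory CategoryTheory.Limits
open Groth.Agent.Lib.DR
open Groth.Agent.Lib.DR.Basic Groth.Agent.Lib.DR.FiniteComplex Groth.Agent.Lib.DR.PseudoCoherent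
open Groth.Agent.Lib.DR.BaseChange Groth.Agent.Lib.DR.Representative
open Groth.Agent.H54.PCRestrict Groth.Agent.H54.RelPC
open scoped TensorProduct

attribute [local instance] HasDerivedCategory.standard

namespace Groth.Agent.Lib.ExtCM77.Fibre

section BC

variable {R R' P P' : Type u} [CommRing R] [CommRing R'] [CommRing P] [CommRing P'] [Algebra R R'] [Algebra R P]
  [Algebra R P'] [Algebra R' P'] [Algebra P P'] [IsScalarTower R R' P'] [IsScalarTower R P P']
  [hpush : Algebra.IsPushout R R' P P']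

variable (R R')
include hpush

/-- Base change of a resolution of a module flat over the base. -/
theorem nonempty_ext_iso (M : Type u) [AddCommGroup M] [Module P M] [Module.Flat R P]
    (hM : flat R ((res (algebraMap R P)).obj (ModuleCat.of P M)))
    (E : DRing.Cx P) (hE : ∀ i, 0 < i → IsZero (E.X i)) (hp : ∀ i, fproj P (E.X i))
    (e : DerivedCategory.Q.obj E ≅ Dual.inD P M) :
    Nonempty (DerivedCategory.Q.obj ((ext (algebraMap P P')).obj E) ≅ Dual.inD P' (P' ⊗[P] M)) := by
  have := isKProjective_of_bounds projective_of_fproj hE hp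
  let K := (CochainComplex.singleFunctor (ModuleCat.{u} P) 0).obj (ModuleCat.of P M)
  obtain ⟨s, hs⟩ := exists_Q_map_eq (K := K)
    (e.hom ≫ ((DerivedCategory.singleFunctorIsoCompQ (ModuleCat.{u} P) 0).app (ModuleCat.of P M)).hom)
  have : QuasiIso s := by
    rw [← DerivedCategory.isIso_Q_map_iff_quasiIso, hs]
    infer_instance
  have hgP : (algebraMap R P).Flat := by rw [RingHom.flat_algebraMap_iff]; infer_instance
  have hKz : ∀ i, i ≠ 0 → IsZero (K.X i) := fun i hi => HomologicalComplex.isZero_single_obj_X _ _ _ _ hi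
  have hflat : ∀ i, flat R ((res (algebraMap R P)).obj ((CochainComplex.mappingCone s).X i)) := fun i => by
    refine good_flat.iso ((res (algebraMap R P)).mapIso
      (HomologicalComplex.homotopyCofiber.XIsoBiprod s i (i + 1) rfl).symm) ?_
    haveI := preservesBinaryBiproduct_of_preservesBiproduct (res (algebraMap R P)) (E.X (i + 1)) (K.X i)
    refine good_flat.iso ((res (algebraMap R P)).mapBiprod _ _).symm (good_flat.biprod
      (Groth.Agent.H54.TorPoly.res_flat hgP _ (flat_of_fproj _ (hp (i + 1)))) ?_)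
    by_cases hi : i = 0
    · subst hi
      exact good_flat.iso ((res (algebraMap R P)).mapIso
        (HomologicalComplex.singleObjXSelf (ComplexShape.up ℤ) 0 (ModuleCat.of P M))).symm hM
    · exact good_flat.zero ((res (algebraMap R P)).map_isZero (hKz i hi))
  have hz : ∀ i, 0 < i → IsZero ((CochainComplex.mappingCone s).X i) := fun i hi => by
    refine IsZero.of_iso ?_ (HomologicalComplex.homotopyCofiber.XIsoBiprod s i (i + 1) rfl)
    rw [biprod_isZero_iff]
    exact ⟨hE _ (by lia), hKz i (by lia)⟩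
  have hacy := Groth.Agent.H54.PCFlatBase.acyclic_ext R R' (P' := P') (CochainComplex.mappingCone s) 0 hz
    ((quasiIso_iff_acyclic s).1 inferInstance) hflat
  have : QuasiIso ((ext (algebraMap P P')).map s) := by
    rw [quasiIso_iff_acyclic]
    intro i
    exact (hacy i).of_iso (CochainComplex.mappingCone.mapHomologicalComplexIso s _)
  have : IsIso (DerivedCategory.Q.map ((ext (algebraMap P P')).map s)) :=
    Localization.inverts DerivedCategory.Q
      (HomologicalComplex.quasiIso (ModuleCat.{u} P') (ComplexShape.up ℤ)) _ this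
  exact ⟨asIso (DerivedCategory.Q.map ((ext (algebraMap P P')).map s)) ≪≫
    DerivedCategory.Q.mapIso ((HomologicalComplex.singleMapHomologicalComplex
      (ModuleCat.extendScalars.{u, u, u} (algebraMap P P')) (ComplexShape.up ℤ) 0).app (ModuleCat.of P M)) ≪≫
    ((DerivedCategory.singleFunctorIsoCompQ (ModuleCat.{u} P') 0).app _).symm ≪≫
    (sgl P' 0).mapIso (FlatBC.extEquiv P P' M).toModuleIso⟩

end BC

/-- The homology of a complex resolving a module. -/
noncomputable def homIso {P : Type u} [CommRing P] (E : DRing.Cx P)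
    {M : Type u} [AddCommGroup M] [Module P M] (e : DerivedCategory.Q.obj E ≅ Dual.inD P M) (i : ℤ) :
    E.homology i ≅ ((CochainComplex.singleFunctor (ModuleCat.{u} P) 0).obj (ModuleCat.of P M)).homology i :=
  (DerivedCategory.homologyFunctorFactors _ i).symm.app E ≪≫
    (DerivedCategory.homologyFunctor _ i).mapIso
      (e ≪≫ (DerivedCategory.singleFunctorIsoCompQ (ModuleCat.{u} P) 0).app (ModuleCat.of P M)) ≪≫
    (DerivedCategory.homologyFunctorFactors _ i).app _

/-- A complex resolving a module gives a resolution. -/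
noncomputable def syzOfIso {P : Type u} [CommRing P] (E : DRing.Cx P) (L : ℕ)
    (hz : ∀ i, i < -(L : ℤ) ∨ 0 < i → IsZero (E.X i)) (hp : ∀ i, fproj P (E.X i))
    {M : Type u} [AddCommGroup M] [Module P M] (e : DerivedCategory.Q.obj E ≅ Dual.inD P M) :
    Groth.Agent.Lib.LCFin.TotalCx.Syz P M L :=
  Resol.syz E L hz (fun i => (hp i).1) (fun i => (hp i).2)
    (fun i hi => (E.exactAt_iff_isZero_homology i).2
      (((((CochainComplex.singleFunctor (ModuleCat.{u} P) 0).obj (ModuleCat.of P M))).exactAt_iff_isZero_homology i).1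
        (HomologicalComplex.exactAt_single_obj _ 0 (ModuleCat.of P M) i hi.ne) |>.of_iso (homIso E e i)))
    (homIso E e 0 ≪≫ HomologicalComplex.singleObjHomologySelfIso (ComplexShape.up ℤ) 0 (ModuleCat.of P M))

/-- Coboundaries with values in a module. -/
def IsCobd {P : Type u} [CommRing P] {M : Type u} [AddCommGroup M] [Module P M] {L : ℕ}
    (S : Groth.Agent.Lib.LCFin.TotalCx.Syz P M L) (W : Type u) [AddCommGroup W] [Module P W] :
    ∀ j : ℕ, (S.P j →ₗ[P] W) → Prop
  | 0, z => z = 0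
  | b + 1, z => ∃ g : S.P b →ₗ[P] W, g ∘ₗ S.dP b = z

section FibreRing

variable (A : Type u) [CommRing A] {N : ℕ} (I : Ideal (MvPolynomial (Fin N) A))
  (k : Type u) [CommRing k] [Algebra A k]

attribute [local instance] MvPolynomial.algebraMvPolynomial

/-- The fibre of a presented algebra. -/
theorem nonempty_fibreEquiv :
    Nonempty ((MvPolynomial (Fin N) k ⧸ I.map (algebraMap (MvPolynomial (Fin N) A) (MvPolynomial (Fin N) k))) ≃+*
      ((MvPolynomial (Fin N) A ⧸ I) ⊗[A] k)) := by
  let P := MvPolynomial (Fin N) A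
  let Pk := MvPolynomial (Fin N) k
  let J := I.map (algebraMap P Pk)
  let f₀ : Pk →+* (P ⧸ I) ⊗[A] k :=
    MvPolynomial.eval₂Hom (Algebra.TensorProduct.includeRight : k →ₐ[A] (P ⧸ I) ⊗[A] k).toRingHom
      fun i => Ideal.Quotient.mk I (MvPolynomial.X i) ⊗ₜ[A] (1 : k)
  have hf₀ : ∀ x : P, f₀ (algebraMap P Pk x) = (Ideal.Quotient.mk I x) ⊗ₜ[A] (1 : k) := fun x => by
    induction x using MvPolynomial.induction_on with
    | C a =>
      have h1 : f₀ (algebraMap P Pk (MvPolynomial.C a)) = (1 : P ⧸ I) ⊗ₜ[A] algebraMap A k a := by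
        rw [MvPolynomial.algebraMap_def, MvPolynomial.map_C]
        exact MvPolynomial.eval₂Hom_C _ _ _
      rw [h1, Algebra.algebraMap_eq_smul_one, TensorProduct.tmul_smul, TensorProduct.smul_tmul']
      congr 1
      rw [← Algebra.algebraMap_eq_smul_one]
      rfl
    | add a b ha hb => rw [map_add, map_add, map_add, ha, hb, TensorProduct.add_tmul]
    | mul_X q i hq =>
      rw [map_mul, map_mul, map_mul, hq, MvPolynomial.algebraMap_def, MvPolynomial.map_X,
        show f₀ (MvPolynomial.X i) = (Ideal.Quotient.mk I (MvPolynomial.X i)) ⊗ₜ[A] (1 : k) from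
          MvPolynomial.eval₂Hom_X' _ _ _, Algebra.TensorProduct.tmul_mul_tmul, mul_one]
  let f : Pk ⧸ J →+* (P ⧸ I) ⊗[A] k := Ideal.Quotient.lift J f₀ (by
    intro x hx
    refine (Ideal.map_le_iff_le_comap.2 fun y hy => ?_ : J ≤ (⊥ : Ideal ((P ⧸ I) ⊗[A] k)).comap f₀) hx
    show f₀ (algebraMap P Pk y) ∈ (⊥ : Ideal ((P ⧸ I) ⊗[A] k))
    rw [hf₀, Ideal.Quotient.eq_zero_iff_mem.2 hy, TensorProduct.zero_tmul]
    rfl)
  let g₁ : (P ⧸ I) →ₐ[A] Pk ⧸ J := Ideal.Quotient.liftₐ I
    ((Ideal.Quotient.mkₐ A J).comp (IsScalarTower.toAlgHom A P Pk))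
    (fun y hy => Ideal.Quotient.eq_zero_iff_mem.2 (Ideal.mem_map_of_mem _ hy))
  let g₂ : k →ₐ[A] Pk ⧸ J := (Ideal.Quotient.mkₐ A J).comp (IsScalarTower.toAlgHom A k Pk)
  let g : (P ⧸ I) ⊗[A] k →ₐ[A] Pk ⧸ J := Algebra.TensorProduct.lift g₁ g₂ fun _ _ => Commute.all _ _
  have hfg : ∀ z, f (g z) = z := fun z => by
    induction z with
    | zero => simp
    | add a b ha hb => simp only [map_add, ha, hb]
    | tmul x c =>
      obtain ⟨x, rfl⟩ := Ideal.Quotient.mk_surjective x
      rw [Algebra.TensorProduct.lift_tmul, map_mul]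
      show f₀ (algebraMap P Pk x) * f₀ (MvPolynomial.C c) = _
      rw [hf₀, show f₀ (MvPolynomial.C c) = (1 : P ⧸ I) ⊗ₜ[A] c from MvPolynomial.eval₂Hom_C _ _ _]
      simp
  have hgs : Function.Surjective g := by
    intro z
    obtain ⟨z, rfl⟩ := Ideal.Quotient.mk_surjective z
    induction z using MvPolynomial.induction_on with
    | C c => exact ⟨1 ⊗ₜ c, by simp [g, g₂]; rfl⟩
    | add a b ha hb =>
      obtain ⟨a', ha⟩ := ha
      obtain ⟨b', hb⟩ := hb
      exact ⟨a' + b', by rw [map_add, ha, hb, map_add]⟩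
    | mul_X q i hq =>
      obtain ⟨q', hq⟩ := hq
      refine ⟨q' * (Ideal.Quotient.mk I (MvPolynomial.X i) ⊗ₜ 1), ?_⟩
      rw [map_mul, hq, map_mul]
      congr 1
      simp [g, g₁, MvPolynomial.algebraMap_def]
      exact congrArg (Ideal.Quotient.mk J) (MvPolynomial.map_X (algebraMap A k) i)
  exact ⟨(RingEquiv.ofBijective g.toRingHom ⟨fun a b h => (hfg a).symm.trans ((congrArg f h).trans (hfg b)), hgs⟩).symm⟩

end FibreRing

attribute [local instance] MvPolynomial.algebraMvPolynomial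

/-- The dual of a resolution is exact on a fibre away from the codimension. -/
theorem coboundary_on_fibre (A : Type u) [CommRing A] (N n : ℕ) (hnN : n ≤ N)
    (I : Ideal (MvPolynomial (Fin N) A)) [Module.Flat A (MvPolynomial (Fin N) A ⧸ I)]
    (p : PrimeSpectrum A)
    (hCM : LocCoh.IsCohenMacaulayRing ((MvPolynomial (Fin N) A ⧸ I) ⊗[A] p.asIdeal.ResidueField))
    (hdim : ∀ Q : PrimeSpectrum ((MvPolynomial (Fin N) A ⧸ I) ⊗[A] p.asIdeal.ResidueField),
      Q.asIdeal ∈ minimalPrimes ((MvPolynomial (Fin N) A ⧸ I) ⊗[A] p.asIdeal.ResidueField) →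
        Order.coheight Q = (n : ℕ∞))
    (E : DRing.Cx (MvPolynomial (Fin N) A)) (L : ℕ)
    (hz : ∀ i, i < -(L : ℤ) ∨ 0 < i → IsZero (E.X i)) (hp : ∀ i, fproj (MvPolynomial (Fin N) A) (E.X i))
    (e : DerivedCategory.Q.obj E ≅ Dual.inD (MvPolynomial (Fin N) A) (MvPolynomial (Fin N) A ⧸ I))
    (j : ℕ) (hj : j ≠ N - n)
    (z : (syzOfIso E L hz hp e).P j →ₗ[MvPolynomial (Fin N) A] MvPolynomial (Fin N) p.asIdeal.ResidueField)
    (hz' : z ∘ₗ (syzOfIso E L hz hp e).dP j = 0) :
    IsCobd (syzOfIso E L hz hp e) (MvPolynomial (Fin N) p.asIdeal.ResidueField) j z := by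
  let k := p.asIdeal.ResidueField
  let P := MvPolynomial (Fin N) A
  let Pk := MvPolynomial (Fin N) k
  let J : Ideal Pk := I.map (algebraMap P Pk)
  have hM : flat A ((res (algebraMap A P)).obj (ModuleCat.of P (P ⧸ I))) := by
    let te : (res (algebraMap A P)).obj (ModuleCat.of P (P ⧸ I)) ≃ₗ[A] (P ⧸ I) :=
      { AddEquiv.refl (P ⧸ I) with map_smul' := fun r x => algebraMap_smul P r (show P ⧸ I from x) }
    exact good_flat.iso te.toModuleIso.symm
      (show flat A (ModuleCat.of A (P ⧸ I)) from inferInstanceAs (Module.Flat A (P ⧸ I)))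
  obtain ⟨ek⟩ := nonempty_ext_iso (R := A) (R' := k) (P' := Pk) (P ⧸ I) hM E (fun i hi => hz i (Or.inr hi)) hp e
  let Ek := (ext (algebraMap P Pk)).obj E
  let ek' : DerivedCategory.Q.obj Ek ≅ Dual.inD Pk (Pk ⧸ J) :=
    ek ≪≫ (sgl Pk 0).mapIso
      (Algebra.TensorProduct.quotIdealMapEquivTensorQuot Pk I).symm.toLinearEquiv.toModuleIso
  have hzk : ∀ i, i < -(L : ℤ) ∨ 0 < i → IsZero (Ek.X i) := fun i hi =>
    (ModuleCat.extendScalars.{u, u, u} (algebraMap P Pk)).map_isZero (hz i hi)
  have hpk : ∀ i, fproj Pk (Ek.X i) := fun i => ext_fproj _ _ (hp i)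
  let Sk := syzOfIso Ek L hzk hpk ek'
  let S := syzOfIso E L hz hp e
  -- the hypotheses on the fibre
  obtain ⟨ρ⟩ := nonempty_fibreEquiv A I k
  have hvan := ((Groth.Agent.S11361.result k N n hnN J).1 fun p₀ => by
    have hp₀ : Function.Bijective (algebraMap k p₀.asIdeal.ResidueField) :=
      ⟨(algebraMap k p₀.asIdeal.ResidueField).injective, by
        haveI : p₀.asIdeal.IsMaximal := Ideal.IsPrime.isMaximal' inferInstance
        exact Ideal.algebraMap_residueField_surjective p₀.asIdeal⟩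
    let σ : (Pk ⧸ J) ≃+* (Pk ⧸ J) ⊗[k] p₀.asIdeal.ResidueField :=
      ((Algebra.TensorProduct.rid k k (Pk ⧸ J)).symm.trans
        (Algebra.TensorProduct.congr AlgEquiv.refl
          (AlgEquiv.ofBijective (Algebra.ofId k p₀.asIdeal.ResidueField) hp₀))).toRingEquiv
    exact Groth.Agent.S11361.transport σ n (Groth.Agent.S11361.transport ρ.symm n ⟨hCM, hdim⟩)).1
  -- functionals
  let up : ∀ a : ℕ, (S.P a →ₗ[P] Pk) → (Sk.P a →ₗ[Pk] Pk) := fun a f =>
    f.liftBaseChange Pk ∘ₗ (FlatBC.extEquiv P Pk (S.P a)).toLinearMap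
  have up_η : ∀ (a : ℕ) (f : S.P a →ₗ[P] Pk) (m : S.P a),
      up a f ((FlatBC.extEquiv P Pk (S.P a)).symm (1 ⊗ₜ m)) = f m := fun a f m => by
    show f.liftBaseChange Pk (FlatBC.extEquiv P Pk (S.P a) ((FlatBC.extEquiv P Pk (S.P a)).symm (1 ⊗ₜ m))) = f m
    rw [LinearEquiv.apply_symm_apply]
    simp
  have hd : ∀ (a : ℕ) (m : S.P (a + 1)),
      Sk.dP a ((FlatBC.extEquiv P Pk (S.P (a + 1))).symm (1 ⊗ₜ m)) =
        (FlatBC.extEquiv P Pk (S.P a)).symm (1 ⊗ₜ S.dP a m) := fun a m => rfl
  have hext : ∀ (a : ℕ) (f g : Sk.P a →ₗ[Pk] Pk), (∀ m : S.P a,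
      f ((FlatBC.extEquiv P Pk (S.P a)).symm (1 ⊗ₜ m)) = g ((FlatBC.extEquiv P Pk (S.P a)).symm (1 ⊗ₜ m))) →
      f = g := fun a f g h => by
    refine LinearMap.ext fun x => ?_
    obtain ⟨x, rfl⟩ := (FlatBC.extEquiv P Pk (S.P a)).symm.surjective x
    induction x using TensorProduct.induction_on with
    | zero =>
      exact ((congrArg f (map_zero _)).trans (map_zero f)).trans ((congrArg g (map_zero _)).trans (map_zero g)).symm
    | add x y hx hy =>
      exact (congrArg f (map_add _ x y)).trans ((map_add f _ _).trans ((congrArg₂ (· + ·) hx hy).trans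
        ((map_add g _ _).symm.trans (congrArg g (map_add _ x y).symm))))
    | tmul c m =>
      rw [show c ⊗ₜ[P] m = c • ((1 : Pk) ⊗ₜ[P] m) by rw [TensorProduct.smul_tmul', smul_eq_mul, mul_one]]
      exact (congrArg f (map_smul _ c _)).trans ((map_smul f c _).trans ((congrArg (c • ·) (h m)).trans
        ((map_smul g c _).symm.trans (congrArg g (map_smul _ c _).symm))))
  obtain ⟨Φ, -, hΦ⟩ := Resol.exists_toExt Sk j
  haveI := hvan j hj
  have hcoc : up j z ∈ LinearMap.ker (Resol.δ Sk j) := LinearMap.mem_ker.2 (hext (j + 1) _ _ fun m => by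
    exact (congrArg (up j z) (hd j m)).trans ((up_η j _ _).trans (LinearMap.congr_fun hz' m)))
  have hb := (hΦ ⟨up j z, hcoc⟩).1 (Subsingleton.elim _ _)
  cases j with
  | zero =>
    refine LinearMap.ext fun m => ?_
    exact (up_η 0 z m).symm.trans (LinearMap.congr_fun ((Submodule.mem_bot Pk).1 hb) _)
  | succ b =>
    obtain ⟨g, hg⟩ := hb
    let g' : S.P b →ₗ[P] Pk :=
      { toFun := fun m => g ((FlatBC.extEquiv P Pk (S.P b)).symm (1 ⊗ₜ m))
        map_add' := fun x y => by
          rw [TensorProduct.tmul_add]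
          exact (congrArg g (map_add _ _ _)).trans (map_add g _ _)
        map_smul' := fun c m => by
          rw [show (1 : Pk) ⊗ₜ[P] (c • m) = algebraMap P Pk c • ((1 : Pk) ⊗ₜ[P] m) by
            rw [TensorProduct.tmul_smul, algebraMap_smul]]
          exact (congrArg g (map_smul _ (algebraMap P Pk c) _)).trans
            ((map_smul g (algebraMap P Pk c) _).trans (algebraMap_smul Pk c _)) }
    refine ⟨g', LinearMap.ext fun m => ?_⟩
    exact (congrArg g (hd b m)).symm.trans ((LinearMap.congr_fun hg _).trans (up_η (b + 1) z m))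

end Groth.Agent.Lib.ExtCM77.Fibre
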