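import Groth.Agent.Lib.KosSpread77.Fibre
import Mathlib.RingTheory.Localization.LocalizationLocalization
import Mathlib.RingTheory.MvPolynomial.Localization
import Mathlib.RingTheory.Flat.Localization
import Mathlib.RingTheory.LocalProperties.Projective
import Mathlib.RingTheory.Finiteness.Projective

/-!
# Exactness and flat cokernels from the fibres, for polynomial rings
-/

set_option autoImplicit false
set_option linter.style.haveILetI false
set_option maxHeartbeats 1000000
set_option synthInstance.maxHeartbeats 200000

universe u

namespace Groth.Agent.Lib.ExtCM77.Local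

variable {A : Type u} [CommRing A] {N : ℕ}

/-- Exactness and flatness of the cokernel at a prime, from the fibre under it. -/
theorem local_step {M' M M'' : Type u} [AddCommGroup M'] [Module (MvPolynomial (Fin N) A) M']
    [Module.Finite (MvPolynomial (Fin N) A) M']
    [AddCommGroup M] [Module (MvPolynomial (Fin N) A) M] [Module.Finite (MvPolynomial (Fin N) A) M]
    [Module.Projective (MvPolynomial (Fin N) A) M]
    [AddCommGroup M''] [Module (MvPolynomial (Fin N) A) M''] [Module.Finite (MvPolynomial (Fin N) A) M'']
    [Module.Projective (MvPolynomial (Fin N) A) M''] [Module A M''] [IsScalarTower A (MvPolynomial (Fin N) A) M'']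
    (f : M' →ₗ[MvPolynomial (Fin N) A] M) (g : M →ₗ[MvPolynomial (Fin N) A] M'') (hgf : g ∘ₗ f = 0)
    (h : ∀ (p : PrimeSpectrum A) (z : M),
      g z ∈ (p.asIdeal.map (algebraMap A (MvPolynomial (Fin N) A))) • (⊤ : Submodule (MvPolynomial (Fin N) A) M'') →
        ∃ t : A, t ∉ p.asIdeal ∧ algebraMap A (MvPolynomial (Fin N) A) t • z ∈
          LinearMap.range f ⊔ (p.asIdeal.map (algebraMap A (MvPolynomial (Fin N) A))) •
            (⊤ : Submodule (MvPolynomial (Fin N) A) M))
    (Q : Ideal (MvPolynomial (Fin N) A)) [Q.IsPrime] :
    (∀ z : M, g z = 0 → ∃ t : MvPolynomial (Fin N) A, t ∉ Q ∧ t • z ∈ LinearMap.range f) ∧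
      Module.Flat A (LocalizedModule Q.primeCompl (M'' ⧸ LinearMap.range g)) := by
  letI : Algebra (MvPolynomial (Fin N) A) (MvPolynomial (Fin N) (Localization.AtPrime (Q.comap (algebraMap A (MvPolynomial (Fin N) A))))) :=
    MvPolynomial.algebraMvPolynomial
  let P := MvPolynomial (Fin N) A
  let p : Ideal A := Q.comap (algebraMap A P)
  let R := Localization.AtPrime p
  let S := Localization.AtPrime Q
  let φ : R →+* S := Localization.localRingHom p Q (algebraMap A P) rfl
  letI : Algebra R S := φ.toAlgebra
  haveI : IsLocalHom (algebraMap R S) := inferInstanceAs (IsLocalHom (Localization.localRingHom p Q (algebraMap A P) rfl))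
  haveI : IsScalarTower A R S := IsScalarTower.of_algebraMap_eq fun a =>
    ((IsScalarTower.algebraMap_apply A P S a).trans (Localization.localRingHom_to_map p Q _ rfl a).symm)
  haveI : Module.Flat A S := Module.Flat.trans A P S
  haveI hRS : Module.Flat R S := (Module.flat_iff_of_isLocalization R p.primeCompl S).2 inferInstance
  -- `S` is essentially of finite presentation over `R`
  let S₀ := MvPolynomial (Fin N) R
  let ev : S₀ →ₐ[R] S := MvPolynomial.aeval fun i => algebraMap P S (MvPolynomial.X i)
  letI : Algebra S₀ S := ev.toRingHom.toAlgebra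
  haveI : IsScalarTower R S₀ S := IsScalarTower.of_algebraMap_eq fun r => (ev.commutes r).symm
  haveI : IsScalarTower P S₀ S := IsScalarTower.of_algebraMap_eq fun x => by
    show algebraMap P S x = ev (MvPolynomial.map (algebraMap A R) x)
    induction x using MvPolynomial.induction_on with
    | C a =>
      rw [MvPolynomial.map_C]
      exact ((IsScalarTower.algebraMap_apply A R S a).symm.trans (IsScalarTower.algebraMap_apply A P S a)).symm.trans
        (ev.commutes _).symm
    | add a b ha hb => rw [map_add, map_add, map_add, ha, hb]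
    | mul_X q i hq =>
      rw [map_mul, map_mul, map_mul, hq, MvPolynomial.map_X]
      exact congrArg _ (MvPolynomial.aeval_X (fun i => algebraMap P S (MvPolynomial.X i)) i).symm
  have hle : p.primeCompl.map (MvPolynomial.C : A →+* P) ≤ Q.primeCompl := by
    rintro _ ⟨a, ha, rfl⟩
    exact ha
  haveI : IsLocalization (p.primeCompl.map (MvPolynomial.C : A →+* P)) S₀ :=
    MvPolynomial.isLocalization p.primeCompl R
  have hefp : CAlgX.IsEssFinitePresentation R S :=
    ⟨S₀, inferInstance, inferInstance, inferInstance, inferInstance, _, inferInstance,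
      IsLocalization.isLocalization_of_submonoid_le S₀ S _ Q.primeCompl hle⟩
  -- the localized modules
  let f' : LocalizedModule Q.primeCompl M' →ₗ[S] LocalizedModule Q.primeCompl M := LocalizedModule.map Q.primeCompl f
  let g' : LocalizedModule Q.primeCompl M →ₗ[S] LocalizedModule Q.primeCompl M'' := LocalizedModule.map Q.primeCompl g
  letI : Module R (LocalizedModule Q.primeCompl M'') := Module.compHom _ (algebraMap R S)
  haveI : IsScalarTower R S (LocalizedModule Q.primeCompl M'') := IsScalarTower.of_algebraMap_smul fun _ _ => rfl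
  haveI : Module.FinitePresentation S (LocalizedModule Q.primeCompl M) :=
    Module.finitePresentation_of_projective S _
  haveI : Module.FinitePresentation S (LocalizedModule Q.primeCompl M'') :=
    Module.finitePresentation_of_projective S _
  haveI : Module.Flat S (LocalizedModule Q.primeCompl M'') := inferInstance
  have hmax : (IsLocalRing.maximalIdeal R).map (algebraMap R S) =
      (p.map (algebraMap A P)).map (algebraMap P S) := by
    rw [← Localization.AtPrime.map_eq_maximalIdeal, Ideal.map_map, Ideal.map_map,
      ← IsScalarTower.algebraMap_eq A R S, ← IsScalarTower.algebraMap_eq A P S]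
  -- membership in the fibre ideal
  have hmem : ∀ {X : Type u} [AddCommGroup X] [Module P X] (x : X) (s : Q.primeCompl),
      (LocalizedModule.mk x s ∈ (IsLocalRing.maximalIdeal R).map (algebraMap R S) •
        (⊤ : Submodule S (LocalizedModule Q.primeCompl X))) ↔
      ∃ t : P, t ∉ Q ∧ t • x ∈ (p.map (algebraMap A P)) • (⊤ : Submodule P X) := by
    intro X _ _ x s
    have e : (IsLocalRing.maximalIdeal R).map (algebraMap R S) • (⊤ : Submodule S (LocalizedModule Q.primeCompl X)) =
        ((p.map (algebraMap A P)) • (⊤ : Submodule P X)).localized Q.primeCompl := by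
      rw [hmax, Submodule.localized, Submodule.localized'_smul, Ideal.localized'_eq_map, Submodule.localized'_top]
    rw [e, Submodule.localized, Submodule.mem_localized']
    constructor
    · rintro ⟨y, hy, s', he⟩
      rw [← IsLocalizedModule.mk_eq_mk', LocalizedModule.mk_eq] at he
      obtain ⟨c, hc⟩ := he
      refine ⟨(c : P) * (s' : P), Q.primeCompl.mul_mem c.2 s'.2, ?_⟩
      rw [mul_smul]
      have hc' : (c : P) • (s : P) • y = (c : P) • (s' : P) • x := hc
      rw [← hc']
      exact Submodule.smul_mem _ _ (Submodule.smul_mem _ _ hy)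
    · rintro ⟨t, ht, htx⟩
      refine ⟨t • x, htx, ⟨t, ht⟩ * s, ?_⟩
      rw [← IsLocalizedModule.mk_eq_mk', LocalizedModule.mk_eq]
      exact ⟨1, by simp only [one_smul, Submonoid.smul_def, Submonoid.coe_mul, smul_smul, mul_comm]⟩
  obtain ⟨hex, hflat⟩ := Groth.Agent.Lib.KosSpread77.Fibre.exact_step (R := R) (A := S) hefp f' g'
    (LinearMap.ext fun x => by
      induction x with
      | _ x s =>
        show LocalizedModule.map Q.primeCompl g (LocalizedModule.map Q.primeCompl f (LocalizedModule.mk x s)) = 0
        rw [LocalizedModule.map_mk, LocalizedModule.map_mk,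
          show g (f x) = 0 from LinearMap.congr_fun hgf x, LocalizedModule.zero_mk])
    (fun y hy => by
      induction y with
      | _ z s =>
        rw [show g' (LocalizedModule.mk z s) = LocalizedModule.mk (g z) s from LocalizedModule.map_mk Q.primeCompl g z s,
          hmem] at hy
        obtain ⟨t, ht, htz⟩ := hy
        obtain ⟨t', ht', hmem'⟩ := h ⟨p, inferInstance⟩ (t • z) (by rwa [map_smul])
        obtain ⟨_, ⟨w, rfl⟩, v, hv, hwv⟩ := Submodule.mem_sup.1 hmem'
        have htt : algebraMap A P t' * t ∈ Q.primeCompl := Q.primeCompl.mul_mem ht' ht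
        refine Submodule.mem_sup.2 ⟨LocalizedModule.mk (f w) (⟨_, htt⟩ * s),
          ⟨LocalizedModule.mk w _, LocalizedModule.map_mk Q.primeCompl f w _⟩,
          LocalizedModule.mk v (⟨_, htt⟩ * s), (hmem v _).2 ⟨1, Q.primeCompl.one_mem, by rwa [one_smul]⟩, ?_⟩
        rw [LocalizedModule.mk_add_mk, LocalizedModule.mk_eq]
        refine ⟨1, ?_⟩
        simp only [one_smul, Submonoid.smul_def, ← smul_add, hwv, smul_smul, Submonoid.coe_mul]
        refine congrArg (· • z) ?_
        simp only [P]
        ring)
  refine ⟨fun z hz => ?_, ?_⟩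
  · obtain ⟨w, hw⟩ := (hex (LocalizedModule.mk z 1)).1 (by
      show LocalizedModule.map Q.primeCompl g (LocalizedModule.mk z 1) = 0
      rw [LocalizedModule.map_mk, hz, LocalizedModule.zero_mk])
    induction w with
    | _ w s =>
      rw [show f' (LocalizedModule.mk w s) = LocalizedModule.mk (f w) s from LocalizedModule.map_mk Q.primeCompl f w s,
        LocalizedModule.mk_eq] at hw
      obtain ⟨c, hc⟩ := hw
      refine ⟨(c : P) * (s : P), Q.primeCompl.mul_mem c.2 s.2, (c : P) • w, ?_⟩
      have hc' : (c : P) • ((1 : P) • f w) = (c : P) • ((s : P) • z) := hc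
      rw [map_smul, mul_smul, ← hc', one_smul]
  · have hrange : (LinearMap.range g).localized Q.primeCompl = LinearMap.range g' :=
      LinearMap.localized'_range_eq_range_localizedMap (Localization Q.primeCompl) Q.primeCompl
        (LocalizedModule.mkLinearMap Q.primeCompl M) (LocalizedModule.mkLinearMap Q.primeCompl M'') g
    let e : LocalizedModule Q.primeCompl (M'' ⧸ LinearMap.range g) ≃ₗ[S]
        LocalizedModule Q.primeCompl M'' ⧸ LinearMap.range g' :=
      (localizedQuotientEquiv Q.primeCompl (LinearMap.range g)).symm.trans (Submodule.quotEquivOfEq _ _ hrange)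
    have hA : ∀ (a : A) {X : Type u} [AddCommGroup X] [Module P X] [Module A X] [IsScalarTower A P X]
        (x : LocalizedModule Q.primeCompl X), algebraMap A S a • x = a • x := fun a X _ _ _ _ x => by
      rw [IsScalarTower.algebraMap_apply A P S, algebraMap_smul, algebraMap_smul]
    haveI : IsScalarTower A S (LocalizedModule Q.primeCompl M'') := IsScalarTower.of_algebraMap_smul fun a x => hA a x
    haveI : IsScalarTower A S (LocalizedModule Q.primeCompl (M'' ⧸ LinearMap.range g)) :=
      IsScalarTower.of_algebraMap_smul fun a x => hA a x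
    haveI : IsScalarTower A R (LocalizedModule Q.primeCompl M'') := IsScalarTower.of_algebraMap_smul fun a x => by
      show algebraMap R S (algebraMap A R a) • x = a • x
      rw [← IsScalarTower.algebraMap_apply]
      exact hA a x
    haveI : IsScalarTower A R (LocalizedModule Q.primeCompl M'' ⧸ LinearMap.range g') :=
      IsScalarTower.of_algebraMap_smul fun a x => by
        obtain ⟨x, rfl⟩ := Submodule.Quotient.mk_surjective _ x
        rw [← Submodule.Quotient.mk_smul, ← Submodule.Quotient.mk_smul, algebraMap_smul]
    haveI : Module.Flat A (LocalizedModule Q.primeCompl M'' ⧸ LinearMap.range g') :=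
      (Module.flat_iff_of_isLocalization R p.primeCompl _).1 hflat
    exact Module.Flat.of_linearEquiv (e.restrictScalars A)

end Groth.Agent.Lib.ExtCM77.Local
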