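import Groth.Agent.Lib.ExtCM77.Fibre
import Groth.Agent.Lib.ExtCM77.Local
import Mathlib.RingTheory.Polynomial.Basic

/-!
# `Ext` of a flat finitely presented algebra with Cohen-Macaulay fibres
-/

set_option autoImplicit false
set_option linter.style.haveILetI false
set_option maxHeartbeats 1000000
set_option synthInstance.maxHeartbeats 200000

universe u

open Groth.Agent.Lib.LCFin.TotalCx

namespace Groth.Agent.Lib.ExtCM77.Main

variable {A : Type u} [CommRing A] {N : ℕ}

attribute [local instance 10] MvPolynomial.algebraMvPolynomial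

/-- A functional with values in an ideal is in the ideal times the dual. -/
theorem mem_smul_dual {R : Type u} [CommRing R] {F : Type u} [AddCommGroup F] [Module R F] [Module.Finite R F]
    [Module.Projective R F] (J : Ideal R) (φ : Module.Dual R F) (h : ∀ x, φ x ∈ J) :
    φ ∈ J • (⊤ : Submodule R (Module.Dual R F)) := by
  obtain ⟨n, π, σ, -, -, hπσ⟩ := Module.Finite.exists_comp_eq_id_of_projective R F
  have h1 : φ = ∑ i, φ (π (Pi.single i 1)) • ((LinearMap.proj i).comp σ) := by
    refine LinearMap.ext fun x => ?_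
    conv_lhs => rw [← LinearMap.id_apply (R := R) x, ← hπσ, LinearMap.comp_apply, pi_eq_sum_univ' (σ x)]
    simp [map_sum, LinearMap.sum_apply, mul_comm]
  rw [h1]
  exact Submodule.sum_mem _ fun i _ => Submodule.smul_mem_smul (h _) Submodule.mem_top

theorem apply_mem_of_mem_smul {R : Type u} [CommRing R] {F : Type u} [AddCommGroup F] [Module R F]
    (J : Ideal R) (φ : Module.Dual R F) (h : φ ∈ J • (⊤ : Submodule R (Module.Dual R F))) (x : F) : φ x ∈ J := by
  refine Submodule.smul_induction_on (p := fun ψ : Module.Dual R F => ψ x ∈ J) h (fun r hr ψ _ => ?_)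
    fun a b ha hb => add_mem ha hb
  exact Ideal.mul_mem_right _ _ hr

/-- The kernel of the map to the fibre. -/
theorem map_eq_zero_iff (p : PrimeSpectrum A) (y : (MvPolynomial (Fin N) A)) :
    algebraMap (MvPolynomial (Fin N) A) (MvPolynomial (Fin N) p.asIdeal.ResidueField) y = 0 ↔ y ∈ p.asIdeal.map (algebraMap A (MvPolynomial (Fin N) A)) := by
  rw [← RingHom.mem_ker, MvPolynomial.algebraMap_def, MvPolynomial.ker_map, Ideal.ker_algebraMap_residueField,
    MvPolynomial.algebraMap_eq]

/-- The map to the fibre is onto up to denominators. -/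
theorem exists_lift (p : PrimeSpectrum A) (y : (MvPolynomial (Fin N) p.asIdeal.ResidueField)) :
    ∃ a : A, a ∉ p.asIdeal ∧ ∃ x : (MvPolynomial (Fin N) A),
      algebraMap (MvPolynomial (Fin N) A) (MvPolynomial (Fin N) p.asIdeal.ResidueField) x = algebraMap (MvPolynomial (Fin N) A) (MvPolynomial (Fin N) p.asIdeal.ResidueField) (algebraMap A (MvPolynomial (Fin N) A) a) * y := by
  induction y using MvPolynomial.induction_on with
  | C c =>
    obtain ⟨x, s, hs, rfl⟩ := IsFractionRing.div_surjective (A ⧸ p.asIdeal) c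
    obtain ⟨x, rfl⟩ := Ideal.Quotient.mk_surjective x
    obtain ⟨s, rfl⟩ := Ideal.Quotient.mk_surjective s
    have hs' : s ∉ p.asIdeal := fun h => nonZeroDivisors.ne_zero hs (Ideal.Quotient.eq_zero_iff_mem.2 h)
    refine ⟨s, hs', MvPolynomial.C x, ?_⟩
    rw [MvPolynomial.algebraMap_def, MvPolynomial.map_C, MvPolynomial.algebraMap_eq, MvPolynomial.map_C,
      ← map_mul, ← Ideal.Quotient.algebraMap_eq, ← IsScalarTower.algebraMap_apply,
      ← IsScalarTower.algebraMap_apply, mul_div_cancel₀]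
    exact fun h => hs' (Ideal.algebraMap_residueField_eq_zero.1 h)
  | add y z hy hz =>
    obtain ⟨a, ha, x, hx⟩ := hy
    obtain ⟨b, hb, x', hx'⟩ := hz
    refine ⟨a * b, fun h => (p.2.mem_or_mem h).elim ha hb, algebraMap A (MvPolynomial (Fin N) A) b * x + algebraMap A (MvPolynomial (Fin N) A) a * x', ?_⟩
    rw [map_add, map_mul, map_mul, hx, hx', map_mul, map_mul]
    ring
  | mul_X y i hy =>
    obtain ⟨a, ha, x, hx⟩ := hy
    refine ⟨a, ha, x * MvPolynomial.X i, ?_⟩
    rw [map_mul, hx, MvPolynomial.algebraMap_def, MvPolynomial.map_X, mul_assoc]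

variable {M : Type u} [AddCommGroup M] [Module (MvPolynomial (Fin N) A) M] {L : ℕ} (S : Syz (MvPolynomial (Fin N) A) M L)

/-- Cochains modulo coboundaries. -/
abbrev C (j : ℕ) : Type u := Module.Dual (MvPolynomial (Fin N) A) (S.P j) ⧸ Resol.cobd S j

instance finite_P (j : ℕ) : Module.Finite (MvPolynomial (Fin N) A) (S.P j) := S.fin j
instance projective_P (j : ℕ) : Module.Projective (MvPolynomial (Fin N) A) (S.P j) := S.proj j

theorem δ_cobd (j : ℕ) (z : Module.Dual (MvPolynomial (Fin N) A) (S.P j)) (hz : z ∈ Resol.cobd S j) : Resol.δ S j z = 0 := by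
  cases j with
  | zero => rw [(Submodule.mem_bot _).1 hz, map_zero]
  | succ b =>
    obtain ⟨g, rfl⟩ := hz
    refine LinearMap.ext fun x => ?_
    show g (S.dP b (S.dP (b + 1) x)) = 0
    rw [(S.dP_eq_zero_iff b _).2 ⟨x, rfl⟩, map_zero]

theorem cobd_fg (j : ℕ) : (Resol.cobd S j).FG := by
  cases j with
  | zero => exact Submodule.fg_bot
  | succ b =>
    rw [Resol.cobd, LinearMap.range_eq_map]
    exact Module.Finite.fg_top.map _

/-- The condition on the fibres. -/
theorem fibre_step (p : PrimeSpectrum A) (j : ℕ)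
    (hfib : ∀ z : S.P j →ₗ[(MvPolynomial (Fin N) A)] (MvPolynomial (Fin N) p.asIdeal.ResidueField), z ∘ₗ S.dP j = 0 → Fibre.IsCobd S _ j z)
    (z : Module.Dual (MvPolynomial (Fin N) A) (S.P j))
    (hz : Resol.δ S j z ∈ p.asIdeal.map (algebraMap A (MvPolynomial (Fin N) A)) • (⊤ : Submodule (MvPolynomial (Fin N) A) (Module.Dual (MvPolynomial (Fin N) A) (S.P (j + 1))))) :
    ∃ t : A, t ∉ p.asIdeal ∧ algebraMap A (MvPolynomial (Fin N) A) t • z ∈ LinearMap.range (Resol.cobd S j).subtype ⊔
      p.asIdeal.map (algebraMap A (MvPolynomial (Fin N) A)) • (⊤ : Submodule (MvPolynomial (Fin N) A) (Module.Dual (MvPolynomial (Fin N) A) (S.P j))) := by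
  classical
  rw [Submodule.range_subtype]
  let ψ : (MvPolynomial (Fin N) A) →ₗ[(MvPolynomial (Fin N) A)] (MvPolynomial (Fin N) p.asIdeal.ResidueField) := Algebra.linearMap (MvPolynomial (Fin N) A) (MvPolynomial (Fin N) p.asIdeal.ResidueField)
  have hψ : ∀ y, ψ y = 0 ↔ y ∈ p.asIdeal.map (algebraMap A (MvPolynomial (Fin N) A)) := map_eq_zero_iff p
  have h1 := hfib (ψ ∘ₗ z) (LinearMap.ext fun x => (hψ _).2 (apply_mem_of_mem_smul _ _ hz x))
  cases j with
  | zero =>
    refine ⟨1, p.2.ne_top ∘ (Ideal.eq_top_iff_one _).2, Submodule.mem_sup_right ?_⟩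
    rw [map_one, one_smul]
    exact mem_smul_dual _ _ fun x => (hψ _).1 (LinearMap.congr_fun h1 x)
  | succ b =>
    obtain ⟨g, hg⟩ := h1
    obtain ⟨n, π, σ, -, -, hπσ⟩ := Module.Finite.exists_comp_eq_id_of_projective (MvPolynomial (Fin N) A) (S.P b)
    choose a ha x hx using fun i => exists_lift p (g (π (Pi.single i 1)))
    let t := ∏ i, a i
    let y : Fin n → (MvPolynomial (Fin N) A) := fun i => algebraMap A (MvPolynomial (Fin N) A) (∏ l ∈ Finset.univ.erase i, a l) * x i
    have hy : ∀ i, ψ (y i) = algebraMap A (MvPolynomial (Fin N) A) t • g (π (Pi.single i 1)) := fun i => by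
      show algebraMap (MvPolynomial (Fin N) A) (MvPolynomial (Fin N) p.asIdeal.ResidueField) (y i) = _
      rw [map_mul, hx, Algebra.smul_def, ← mul_assoc, ← map_mul, ← map_mul,
        Finset.prod_erase_mul _ _ (Finset.mem_univ i)]
    let g' : Module.Dual (MvPolynomial (Fin N) A) (S.P b) := (∑ i, y i • LinearMap.proj i : (Fin n → (MvPolynomial (Fin N) A)) →ₗ[(MvPolynomial (Fin N) A)] (MvPolynomial (Fin N) A)) ∘ₗ σ
    have hg' : ∀ w, ψ (g' w) = algebraMap A (MvPolynomial (Fin N) A) t • g w := fun w => by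
      conv_rhs => rw [← LinearMap.id_apply (R := (MvPolynomial (Fin N) A)) w, ← hπσ, LinearMap.comp_apply, pi_eq_sum_univ' (σ w),
        map_sum, map_sum, Finset.smul_sum]
      simp only [g', LinearMap.comp_apply, LinearMap.sum_apply, LinearMap.smul_apply, LinearMap.proj_apply,
        map_sum, map_smul, smul_eq_mul]
      refine Finset.sum_congr rfl fun i _ => ?_
      rw [mul_comm, ← smul_eq_mul, map_smul, hy, smul_comm]
    refine ⟨t, fun h => ?_, Submodule.mem_sup.2 ⟨Resol.δ S b g', ⟨g', rfl⟩, algebraMap A (MvPolynomial (Fin N) A) t • z - Resol.δ S b g',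
      mem_smul_dual _ _ fun w => (hψ _).1 ?_, by abel⟩⟩
    · obtain ⟨i, -, hi⟩ := p.2.prod_mem_iff.1 h
      exact ha i hi
    · show ψ (algebraMap A (MvPolynomial (Fin N) A) t • z w - g' (S.dP b w)) = 0
      rw [map_sub, map_smul, hg', ← smul_sub]
      rw [show g (S.dP b w) = ψ (z w) from LinearMap.congr_fun hg w, sub_self, smul_zero]

/-- Exactness and flatness of cokernels from the fibres. -/
theorem global_step (j : ℕ)
    (hfib : ∀ (p : PrimeSpectrum A) (z : S.P j →ₗ[(MvPolynomial (Fin N) A)] (MvPolynomial (Fin N) p.asIdeal.ResidueField)),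
      z ∘ₗ S.dP j = 0 → Fibre.IsCobd S _ j z) :
    (∀ z, Resol.δ S j z = 0 → z ∈ Resol.cobd S j) ∧ Module.Flat A (C S (j + 1)) := by
  haveI : Module.Finite (MvPolynomial (Fin N) A) (Resol.cobd S j) := Module.Finite.iff_fg.2 (cobd_fg S j)
  haveI hF : Module.Finite (MvPolynomial (Fin N) A) (Module.Dual (MvPolynomial (Fin N) A) (S.P j)) := inferInstance
  haveI hP : Module.Projective (MvPolynomial (Fin N) A) (Module.Dual (MvPolynomial (Fin N) A) (S.P j)) := inferInstance
  haveI hF' : Module.Finite (MvPolynomial (Fin N) A) (Module.Dual (MvPolynomial (Fin N) A) (S.P (j + 1))) := inferInstance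
  haveI hP' : Module.Projective (MvPolynomial (Fin N) A) (Module.Dual (MvPolynomial (Fin N) A) (S.P (j + 1))) := inferInstance
  letI instA : Module A (Module.Dual (MvPolynomial (Fin N) A) (S.P (j + 1))) := inferInstance
  haveI instT : IsScalarTower A (MvPolynomial (Fin N) A) (Module.Dual (MvPolynomial (Fin N) A) (S.P (j + 1))) := inferInstance
  have hgf : Resol.δ S j ∘ₗ (Resol.cobd S j).subtype = 0 := LinearMap.ext fun z => δ_cobd S j z.1 z.2
  have hh := fun p z hz => fibre_step S p j (hfib p) z hz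
  have key := fun (Q : Ideal (MvPolynomial (Fin N) A)) (hQ : Q.IsPrime) =>
    @Local.local_step A _ N (Resol.cobd S j) (Module.Dual (MvPolynomial (Fin N) A) (S.P j))
      (Module.Dual (MvPolynomial (Fin N) A) (S.P (j + 1))) inferInstance inferInstance inferInstance inferInstance inferInstance hF hP
      inferInstance inferInstance hF' hP' instA instT
      (Resol.cobd S j).subtype (Resol.δ S j) hgf hh Q hQ
  refine ⟨fun z hz => ?_, ?_⟩
  · let J : Ideal (MvPolynomial (Fin N) A) := (Resol.cobd S j).colon {z}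
    by_contra hne
    obtain ⟨Q, hQ, hle⟩ := Ideal.exists_le_maximal J (fun h => hne (by
      have h1 : (1 : (MvPolynomial (Fin N) A)) ∈ J := h ▸ trivial
      simpa [J, Submodule.mem_colon_singleton] using h1))
    haveI := hQ.isPrime
    obtain ⟨t, ht, htz⟩ := (key Q hQ.isPrime).1 z hz
    rw [Submodule.range_subtype] at htz
    exact ht (hle (Submodule.mem_colon_singleton.2 htz))
  · exact Module.flat_of_isLocalized_maximal (MvPolynomial (Fin N) A) (C S (j + 1))
      (fun Q _ => LocalizedModule Q.primeCompl (C S (j + 1)))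
      (fun Q _ => LocalizedModule.mkLinearMap Q.primeCompl _) fun Q hQ => by
        haveI := hQ.isPrime
        exact (key Q hQ.isPrime).2

theorem flat_C_zero : Module.Flat A (C S 0) := by
  haveI : Module.Flat A (Module.Dual (MvPolynomial (Fin N) A) (S.P 0)) := Module.Flat.trans A (MvPolynomial (Fin N) A) _
  exact Module.Flat.of_linearEquiv ((Submodule.quotEquivOfEqBot (Resol.cobd S 0) rfl).restrictScalars A)

theorem subsingleton_C (j : ℕ) (hj : L < j) : Subsingleton (C S j) := by
  haveI := S.zero j hj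
  haveI : Subsingleton (Module.Dual (MvPolynomial (Fin N) A) (S.P j)) := ⟨fun a b => LinearMap.ext fun x => by
    rw [Subsingleton.elim x 0, map_zero, map_zero]⟩
  exact (Submodule.mkQ_surjective (Resol.cobd S j)).subsingleton

/-- The kernel of a surjection between projectives is projective. -/
theorem projective_ker {R : Type u} [CommRing R] {X Y : Type u} [AddCommGroup X] [Module R X] [AddCommGroup Y]
    [Module R Y] [Module.Projective R X] [Module.Projective R Y] (q : X →ₗ[R] Y) (hq : Function.Surjective q) :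
    ∃ r : X →ₗ[R] LinearMap.ker q, r ∘ₗ (LinearMap.ker q).subtype = LinearMap.id := by
  obtain ⟨s, hs⟩ := Module.projective_lifting_property q LinearMap.id hq
  refine ⟨LinearMap.codRestrict _ (LinearMap.id - s ∘ₗ q) fun x => LinearMap.mem_ker.2 ?_,
    LinearMap.ext fun x => Subtype.ext ?_⟩
  · rw [LinearMap.sub_apply, map_sub, LinearMap.comp_apply, ← LinearMap.comp_apply q s, hs, LinearMap.id_apply,
      LinearMap.id_apply, sub_self]
  · show (x : X) - s (q x) = x
    rw [LinearMap.mem_ker.1 x.2, map_zero, sub_zero]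

/-- Above the codimension the coboundaries are projective. -/
theorem projective_C (c : ℕ) (hex : ∀ j, c < j → ∀ z, Resol.δ S j z = 0 → z ∈ Resol.cobd S j) :
    ∀ (d j : ℕ), L < j + d → c < j → Module.Projective (MvPolynomial (Fin N) A) (C S j) := by
  intro d
  induction d with
  | zero =>
    intro j hj _
    haveI := subsingleton_C S j (by omega)
    infer_instance
  | succ d ih =>
    intro j hj hc
    haveI := ih (j + 1) (by omega) (by omega)
    obtain ⟨r, hr⟩ := projective_ker (Resol.cobd S (j + 1)).mkQ (Submodule.mkQ_surjective _)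
    haveI : Module.Projective (MvPolynomial (Fin N) A) (LinearMap.ker (Resol.cobd S (j + 1)).mkQ) :=
      Module.Projective.of_split _ r hr
    have hle : ∀ z ∈ Resol.cobd S j, Resol.δ S j z = 0 := δ_cobd S j
    let u : C S j →ₗ[(MvPolynomial (Fin N) A)] LinearMap.ker (Resol.cobd S (j + 1)).mkQ :=
      LinearMap.codRestrict _ ((Resol.cobd S j).liftQ (Resol.δ S j) hle) fun x => by
        obtain ⟨x, rfl⟩ := Submodule.mkQ_surjective _ x
        exact LinearMap.mem_ker.2 ((Submodule.Quotient.mk_eq_zero _).2 ⟨x, rfl⟩)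
    refine Module.Projective.of_equiv (LinearEquiv.ofBijective u ⟨?_, ?_⟩).symm
    · intro x y h
      obtain ⟨x, rfl⟩ := Submodule.mkQ_surjective _ x
      obtain ⟨y, rfl⟩ := Submodule.mkQ_surjective _ y
      refine (Submodule.Quotient.eq _).2 (hex j hc _ ?_)
      rw [map_sub]
      exact sub_eq_zero.2 (congrArg Subtype.val h)
    · rintro ⟨w, hw⟩
      obtain ⟨x, rfl⟩ := (Submodule.Quotient.mk_eq_zero _).1 (LinearMap.mem_ker.1 hw)
      exact ⟨Submodule.Quotient.mk x, Subtype.ext rfl⟩

/-- A quotient of a direct summand is flat if the quotient of the whole module is. -/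
theorem flat_of_section {R P : Type u} [CommRing R] [CommRing P] [Algebra R P] {D X : Type u} [AddCommGroup D]
    [Module P D] [AddCommGroup X] [Module P X] [Module R X] [IsScalarTower R P X] (C₀ K : Submodule P D)
    [Module R (D ⧸ C₀)] [IsScalarTower R P (D ⧸ C₀)] [Module.Flat R (D ⧸ C₀)]
    (hle : C₀ ≤ K) (Φ : K →ₗ[P] X) (hs : Function.Surjective Φ) (hΦ : ∀ z, Φ z = 0 ↔ z.1 ∈ C₀)
    (r : D →ₗ[P] K) (hr : ∀ z : K, r z.1 = z) : Module.Flat R X := by
  let down : D ⧸ C₀ →ₗ[P] X := C₀.liftQ (Φ ∘ₗ r) fun z hz => by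
    refine LinearMap.mem_ker.2 ?_
    rw [LinearMap.comp_apply, hr ⟨z, hle hz⟩]
    exact (hΦ _).2 hz
  have hk : LinearMap.ker Φ ≤ LinearMap.ker (C₀.mkQ ∘ₗ K.subtype) := fun z hz =>
    LinearMap.mem_ker.2 ((Submodule.Quotient.mk_eq_zero _).2 ((hΦ z).1 hz))
  let up : X →ₗ[P] D ⧸ C₀ :=
    (LinearMap.ker Φ).liftQ (C₀.mkQ ∘ₗ K.subtype) hk ∘ₗ (Φ.quotKerEquivOfSurjective hs).symm.toLinearMap
  refine Module.Flat.of_retract (up.restrictScalars R) (down.restrictScalars R) (LinearMap.ext fun x => ?_)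
  obtain ⟨z, rfl⟩ := hs x
  show down (((LinearMap.ker Φ).liftQ _ hk) ((Φ.quotKerEquivOfSurjective hs).symm (Φ z))) = Φ z
  rw [show (Φ.quotKerEquivOfSurjective hs).symm (Φ z) = Submodule.Quotient.mk z from
    (LinearEquiv.symm_apply_eq _).2 rfl]
  show Φ (r z.1) = Φ z
  rw [hr]

/-- A quotient by a finitely generated submodule of a finitely presented submodule. -/
theorem finitePresentation_of_section {P : Type u} [CommRing P] {D X : Type u} [AddCommGroup D] [Module P D]
    [AddCommGroup X] [Module P X] (C₀ K : Submodule P D) [Module.FinitePresentation P K] (hle : C₀ ≤ K)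
    (Φ : K →ₗ[P] X) (hs : Function.Surjective Φ) (hΦ : ∀ z, Φ z = 0 ↔ z.1 ∈ C₀) (hfg : C₀.FG) :
    Module.FinitePresentation P X := by
  refine Module.finitePresentation_of_surjective Φ hs ?_
  rw [show LinearMap.ker Φ = C₀.comap K.subtype from Submodule.ext fun z => hΦ z]
  refine Submodule.fg_of_fg_map_injective K.subtype Subtype.val_injective ?_
  rwa [Submodule.map_comap_eq, Submodule.range_subtype, inf_eq_right.2 hle]

/-- `Ext` of the algebra. -/
theorem ext_conclusion (c : ℕ) (hfib : ∀ (j : ℕ), j ≠ c → ∀ (p : PrimeSpectrum A)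
      (z : S.P j →ₗ[(MvPolynomial (Fin N) A)] (MvPolynomial (Fin N) p.asIdeal.ResidueField)), z ∘ₗ S.dP j = 0 → Fibre.IsCobd S _ j z) :
    (∀ j, j ≠ c → Subsingleton (CategoryTheory.Abelian.Ext.{u} (ModuleCat.of (MvPolynomial (Fin N) A) M) (ModuleCat.of (MvPolynomial (Fin N) A) (MvPolynomial (Fin N) A)) j)) ∧
      Module.Flat A (RestrictScalars A (MvPolynomial (Fin N) A)
        (CategoryTheory.Abelian.Ext.{u} (ModuleCat.of (MvPolynomial (Fin N) A) M) (ModuleCat.of (MvPolynomial (Fin N) A) (MvPolynomial (Fin N) A)) c)) ∧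
      Module.FinitePresentation (MvPolynomial (Fin N) A)
        (CategoryTheory.Abelian.Ext.{u} (ModuleCat.of (MvPolynomial (Fin N) A) M) (ModuleCat.of (MvPolynomial (Fin N) A) (MvPolynomial (Fin N) A)) c) := by
  have hex : ∀ j, j ≠ c → ∀ z, Resol.δ S j z = 0 → z ∈ Resol.cobd S j := fun j hj =>
    (global_step S j (hfib j hj)).1
  refine ⟨fun j hj => ?_, ?_⟩
  · obtain ⟨Φ, hs, hΦ⟩ := Resol.exists_toExt S j
    refine subsingleton_of_forall_eq 0 fun x => ?_
    obtain ⟨z, rfl⟩ := hs x
    exact (hΦ z).2 (hex j hj z.1 (LinearMap.mem_ker.1 z.2))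
  obtain ⟨Φ, hs, hΦ⟩ := Resol.exists_toExt S c
  -- splitting off the cocycles
  haveI := projective_C S c (fun j hj => hex j hj.ne') (L + 1) (c + 1) (by omega) (Nat.lt_succ_self c)
  obtain ⟨r', hr'⟩ := projective_ker (Resol.cobd S (c + 1)).mkQ (Submodule.mkQ_surjective _)
  haveI : Module.Projective (MvPolynomial (Fin N) A) (LinearMap.ker (Resol.cobd S (c + 1)).mkQ) := Module.Projective.of_split _ r' hr'
  let q : Module.Dual (MvPolynomial (Fin N) A) (S.P c) →ₗ[(MvPolynomial (Fin N) A)] LinearMap.ker (Resol.cobd S (c + 1)).mkQ :=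
    LinearMap.codRestrict _ (Resol.δ S c) fun x =>
      LinearMap.mem_ker.2 ((Submodule.Quotient.mk_eq_zero _).2 ⟨x, rfl⟩)
  have hq : Function.Surjective q := by
    rintro ⟨w, hw⟩
    obtain ⟨x, rfl⟩ := (Submodule.Quotient.mk_eq_zero _).1 (LinearMap.mem_ker.1 hw)
    exact ⟨x, Subtype.ext rfl⟩
  haveI : Module.Projective (MvPolynomial (Fin N) A) (Module.Dual (MvPolynomial (Fin N) A) (S.P c)) := inferInstance
  obtain ⟨r, hr⟩ := projective_ker (R := MvPolynomial (Fin N) A) (X := Module.Dual (MvPolynomial (Fin N) A) (S.P c))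
    (Y := LinearMap.ker (Resol.cobd S (c + 1)).mkQ) q hq
  have hkq : LinearMap.ker q = LinearMap.ker (Resol.δ S c) := LinearMap.ker_codRestrict _ _ _
  let r₀ : Module.Dual (MvPolynomial (Fin N) A) (S.P c) →ₗ[(MvPolynomial (Fin N) A)] LinearMap.ker (Resol.δ S c) := (LinearEquiv.ofEq _ _ hkq).toLinearMap ∘ₗ r
  have hr₀ : ∀ z : LinearMap.ker (Resol.δ S c), r₀ z.1 = z := fun z => by
    have h1 := LinearMap.congr_fun hr ⟨z.1, hkq.ge z.2⟩
    exact Subtype.ext (congrArg Subtype.val h1 :)
  haveI : Module.Projective (MvPolynomial (Fin N) A) (LinearMap.ker (Resol.δ S c)) :=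
    Module.Projective.of_split (LinearMap.ker (Resol.δ S c)).subtype r₀ (LinearMap.ext hr₀)
  haveI : Module.Finite (MvPolynomial (Fin N) A) (LinearMap.ker (Resol.δ S c)) :=
    Module.Finite.of_surjective r₀ fun z => ⟨z.1, hr₀ z⟩
  haveI : Module.FinitePresentation (MvPolynomial (Fin N) A) (LinearMap.ker (Resol.δ S c)) :=
    Module.finitePresentation_of_projective (R := MvPolynomial (Fin N) A) (M := ↥(LinearMap.ker (Resol.δ S c)))
  refine ⟨?_, ?_⟩
  · let X := CategoryTheory.Abelian.Ext.{u} (ModuleCat.of (MvPolynomial (Fin N) A) M) (ModuleCat.of (MvPolynomial (Fin N) A) (MvPolynomial (Fin N) A)) c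
    letI : Module A X := Module.compHom X (algebraMap A (MvPolynomial (Fin N) A))
    haveI : IsScalarTower A (MvPolynomial (Fin N) A) X := IsScalarTower.of_algebraMap_smul fun _ _ => rfl
    rw [Groth.Agent.Lib.DMod.CMFibrePrime.restrict_iff]
    haveI : Module.Flat A (C S c) := by
      cases c with
      | zero => exact flat_C_zero S
      | succ i => exact (global_step S i (hfib i (by omega))).2
    exact flat_of_section (Resol.cobd S c) (LinearMap.ker (Resol.δ S c))
      (fun z hz => LinearMap.mem_ker.2 (δ_cobd S c z hz)) Φ hs hΦ r₀ hr₀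
  · exact finitePresentation_of_section (Resol.cobd S c) (LinearMap.ker (Resol.δ S c))
      (fun z hz => LinearMap.mem_ker.2 (δ_cobd S c z hz)) Φ hs hΦ (cobd_fg S c)

end Groth.Agent.Lib.ExtCM77.Main
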